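import Mathlib.RingTheory.Kaehler.Basic
import Mathlib.RingTheory.Etale.Field
import Mathlib.RingTheory.Unramified.Field
import Mathlib.RingTheory.DiscreteValuationRing.Basic
import Mathlib.FieldTheory.PurelyInseparable.Basic
import Mathlib.FieldTheory.SeparableClosure
import Mathlib.RingTheory.Nakayama
import Mathlib.RingTheory.LocalRing.ResidueField.Basic
import Mathlib.RingTheory.Length

/-!
# The differentials of an extension of discrete valuation rings against the ramification index
-/

set_option autoImplicit false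
set_option linter.all false
set_option backward.isDefEq.respectTransparency false
set_option maxHeartbeats 800000

universe u

open IsLocalRing Polynomial

noncomputable section

namespace GrothLib.RamDiff9

variable (A : Type u) {B : Type u} [CommRing A] [CommRing B] [Algebra A B]

/-- A surjection of the differentials onto a quotient, from a presentation by polynomials over a field. -/
theorem exists_surjective_of_chi {F : Type u} [Field F] {I J : Ideal B} (hIJ : I ≤ J)
    (χ : F[X] →+* B ⧸ I) (hχ : Function.Surjective χ)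
    (hA : ∀ a : A, ∃ c : F, χ (C c) = Ideal.Quotient.mk I (algebraMap A B a))
    (hker : ∀ Q : F[X], χ Q = 0 → Ideal.Quotient.factor hIJ (χ (derivative Q)) = 0) :
    ∃ L : Ω[B⁄A] →ₗ[B] B ⧸ J, Function.Surjective L := by
  classical
  let φ := (Ideal.Quotient.factor hIJ).comp χ
  choose P hP using fun b : B => hχ (Ideal.Quotient.mk I b)
  let δ : B → B ⧸ J := fun b => φ (derivative (P b))
  have wd : ∀ (b : B) (Q : F[X]), χ Q = Ideal.Quotient.mk I b → δ b = φ (derivative Q) := fun b Q hQ => by
    refine sub_eq_zero.1 ?_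
    rw [show δ b = φ (derivative (P b)) from rfl, ← map_sub, ← derivative_sub]
    exact hker _ (by rw [map_sub, hP, hQ, sub_self])
  have hv : ∀ (b : B) (Q : F[X]), χ Q = Ideal.Quotient.mk I b → φ Q = Ideal.Quotient.mk J b := fun b Q hQ => by
    show Ideal.Quotient.factor hIJ (χ Q) = _
    rw [hQ, Ideal.Quotient.factor_mk]
  have hadd : ∀ b c, δ (b + c) = δ b + δ c := fun b c => by
    rw [wd (b + c) (P b + P c) (by rw [map_add, hP, hP, map_add]), derivative_add, map_add]
  have hmul : ∀ b c, δ (b * c) = b • δ c + c • δ b := fun b c => by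
    rw [wd (b * c) (P b * P c) (by rw [map_mul, hP, hP, map_mul]), derivative_mul, map_add, map_mul, map_mul,
      hv b (P b) (hP b), hv c (P c) (hP c)]
    simp only [Algebra.smul_def, Ideal.Quotient.algebraMap_eq]
    show δ b * _ + _ * δ c = _
    ring
  have hsc : ∀ (a : A) (b : B), δ (a • b) = a • δ b := fun a b => by
    obtain ⟨c, hc⟩ := hA a
    rw [wd (a • b) (C c * P b) (by rw [map_mul, hP, hc, Algebra.smul_def, map_mul]), derivative_C_mul, map_mul,
      hv _ (C c) hc]
    rw [← IsScalarTower.algebraMap_smul B a (δ b), Algebra.smul_def, Ideal.Quotient.algebraMap_eq]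
  let D : Derivation A B (B ⧸ J) := Derivation.mk'
    { toFun := δ, map_add' := hadd, map_smul' := hsc } hmul
  refine ⟨D.liftKaehlerDifferential, fun z => ?_⟩
  obtain ⟨w, rfl⟩ := Ideal.Quotient.mk_surjective z
  obtain ⟨x, hx⟩ := Ideal.Quotient.mk_surjective (χ Polynomial.X)
  refine ⟨w • KaehlerDifferential.D A B x, ?_⟩
  rw [map_smul, Derivation.liftKaehlerDifferential_comp_D]
  show w • δ x = _
  rw [wd x _ hx.symm, derivative_X, map_one, Algebra.smul_def, mul_one, Ideal.Quotient.algebraMap_eq]

variable [IsDomain B] [IsDiscreteValuationRing B]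

/-- The powers of a uniformiser in the quotients by powers of the maximal ideal. -/
theorem mk_pow_eq_zero_iff {π : B} (hπ : Irreducible π) (e j : ℕ) :
    Ideal.Quotient.mk (maximalIdeal B ^ e) π ^ j = 0 ↔ e ≤ j := by
  rw [← map_pow, Ideal.Quotient.eq_zero_iff_mem,
    (IsDiscreteValuationRing.irreducible_iff_uniformizer π).1 hπ, Ideal.span_singleton_pow,
    Ideal.mem_span_singleton, pow_dvd_pow_iff hπ.ne_zero hπ.not_isUnit]

/-- The monogenic case: surjections onto quotients of the length of the different. -/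
theorem exists_surjective_of_gen {F : Type u} [Field F] {π : B} (hπ : Irreducible π) (e n : ℕ) (hn : n ≤ e)
    (χ : F[X] →+* B ⧸ maximalIdeal B ^ e)
    (hA : ∀ a : A, ∃ c : F, χ (C c) = Ideal.Quotient.mk _ (algebraMap A B a))
    (g : F[X]) (hg : Irreducible g) (hu : ∃ u, IsUnit u ∧ χ g = u * Ideal.Quotient.mk _ π)
    (hsurj : ∀ b : B, ∃ Q c, Ideal.Quotient.mk _ b - χ Q = Ideal.Quotient.mk _ π * c)
    (hcase : n + 1 ≤ e ∨ (e : F) = 0 ∨ derivative g = 0) :
    ∃ L : Ω[B⁄A] →ₗ[B] B ⧸ maximalIdeal B ^ n, Function.Surjective L := by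
  obtain ⟨u, hu, hgu⟩ := hu
  have hle : maximalIdeal B ^ e ≤ maximalIdeal B ^ n := Ideal.pow_le_pow_right hn
  set q := Ideal.Quotient.mk (maximalIdeal B ^ e) π with hq
  have hq0 : ∀ j, q ^ j = 0 ↔ e ≤ j := fun j => mk_pow_eq_zero_iff hπ e j
  -- surjectivity
  have hsur : Function.Surjective χ := by
    suffices h : ∀ (j : ℕ) (r : B ⧸ maximalIdeal B ^ e), ∃ Q c, r - χ Q = q ^ j * c by
      intro r
      obtain ⟨Q, c, hQ⟩ := h e r
      refine ⟨Q, (sub_eq_zero.1 ?_).symm⟩
      rw [hQ, (hq0 e).2 le_rfl, zero_mul]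
    intro j
    induction j with
    | zero => exact fun r => ⟨0, r, by simp⟩
    | succ j ih =>
      intro r
      obtain ⟨Q, c, hQ⟩ := ih r
      obtain ⟨b, hb⟩ := Ideal.Quotient.mk_surjective (c * (↑((hu.pow j).unit⁻¹) : B ⧸ maximalIdeal B ^ e))
      obtain ⟨Q', c', hQ'⟩ := hsurj b
      refine ⟨Q + g ^ j * Q', u ^ j * c', ?_⟩
      rw [hb] at hQ'
      have h1 : u ^ j * (↑((hu.pow j).unit⁻¹) : B ⧸ maximalIdeal B ^ e) = 1 := (hu.pow j).mul_val_inv
      rw [map_add, map_mul, map_pow, hgu]
      linear_combination hQ + q ^ j * u ^ j * hQ' - q ^ j * c * h1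
  -- the kernel
  have hker : ∀ Q : F[X], χ Q = 0 → g ^ e ∣ Q := by
    intro Q hQ
    suffices h : ∀ j ≤ e, g ^ j ∣ Q from h e le_rfl
    intro j
    induction j with
    | zero => simp
    | succ j ih =>
      intro hj
      obtain ⟨W, rfl⟩ := ih (by omega)
      rw [pow_succ]
      refine mul_dvd_mul_left _ (by_contra fun hW => ?_)
      obtain ⟨a, b, hab⟩ := hg.coprime_iff_not_dvd.2 hW
      have hnil : IsNilpotent (χ a * χ g) := ⟨e, by
        rw [hgu, mul_pow, mul_pow, (hq0 e).2 le_rfl, mul_zero, mul_zero]⟩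
      have h1 : χ b * χ W = 1 - χ a * χ g := by
        rw [← map_mul χ b W, ← map_mul χ a g, ← map_one χ, ← hab, map_add, add_sub_cancel_left]
      have h2 : IsUnit (χ W) := isUnit_of_mul_isUnit_right (h1 ▸ hnil.isUnit_one_sub)
      rw [map_mul, map_pow, h2.mul_left_eq_zero, hgu, mul_pow, (hu.pow j).mul_right_eq_zero, hq0] at hQ
      omega
  refine exists_surjective_of_chi A hle χ hsur hA fun Q hQ => ?_
  obtain ⟨W, rfl⟩ := hker Q hQ
  have hn0 : ∀ j, n ≤ j → Ideal.Quotient.factor hle (χ g) ^ j = 0 := fun j hj => by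
    rw [← map_pow, hgu, mul_pow, map_mul, hq, ← map_pow _ π, Ideal.Quotient.factor_mk,
      Ideal.Quotient.eq_zero_iff_mem.2 (Ideal.pow_le_pow_right hj (Ideal.pow_mem_pow ((mem_maximalIdeal π).2 hπ.not_isUnit) j)),
      mul_zero]
  simp only [derivative_mul, derivative_pow, map_add, map_mul, map_pow]
  rw [hn0 e hn]
  rcases hcase with h | h | h
  · rw [hn0 (e - 1) (by omega)]
    ring
  · simp [h]
  · simp [h]

/-- The case of a separable residue extension. -/
theorem exists_surjective_of_separable [IsLocalRing A] [IsLocalHom (algebraMap A B)]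
    [Algebra.IsSeparable (ResidueField A) (ResidueField B)]
    (e n : ℕ) (he : (maximalIdeal A).map (algebraMap A B) = maximalIdeal B ^ e) (he0 : e ≠ 0) (hn : n ≤ e)
    (hcase : n + 1 ≤ e ∨ (e : ResidueField A) = 0) :
    ∃ L : Ω[B⁄A] →ₗ[B] B ⧸ maximalIdeal B ^ n, Function.Surjective L := by
  obtain ⟨π, hπ⟩ := IsDiscreteValuationRing.exists_irreducible B
  let κA := ResidueField A
  let κB := ResidueField B
  let R := B ⧸ maximalIdeal B ^ e
  letI : Algebra κA R := (Ideal.quotientMap (maximalIdeal B ^ e) (algebraMap A B) (Ideal.map_le_iff_le_comap.1 he.le)).toAlgebra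
  have hres : maximalIdeal B ^ e ≤ maximalIdeal B := Ideal.pow_le_self he0
  let r : R →ₐ[κA] κB :=
    { Ideal.Quotient.factor hres with
      commutes' := fun a => by
        obtain ⟨a, rfl⟩ := IsLocalRing.residue_surjective a
        rfl }
  haveI : Algebra.FormallyEtale κA κB := Algebra.FormallyEtale.of_isSeparable κA κB
  have hr : Function.Surjective r := Ideal.Quotient.factor_surjective hres
  have hnil : IsNilpotent (RingHom.ker (r : R →+* κB)) := by
    refine ⟨e, ?_⟩
    have h : RingHom.ker (r : R →+* κB) = (maximalIdeal B).map (Ideal.Quotient.mk _) :=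
      Ideal.Quotient.factor_ker hres
    rw [h, ← Ideal.map_pow]
    exact Ideal.map_quotient_self _
  let σ : κB →ₐ[κA] R := Algebra.FormallySmooth.liftOfSurjective (AlgHom.id κA κB) r hr hnil
  have hσ : ∀ x, r (σ x) = x := fun x => Algebra.FormallySmooth.liftOfSurjective_apply _ r hr hnil x
  let χ : κB[X] →+* R := eval₂RingHom (σ : κB →+* R) (Ideal.Quotient.mk _ π)
  refine exists_surjective_of_gen A hπ e n hn χ (fun a => ⟨algebraMap κA κB (residue A a), ?_⟩) Polynomial.X irreducible_X
    ⟨1, isUnit_one, by rw [one_mul]; exact eval₂_X _ _⟩ (fun b => ?_) ?_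
  · show eval₂ _ _ (C _) = _
    rw [eval₂_C]
    exact σ.commutes _
  · obtain ⟨c, hc⟩ := Ideal.Quotient.mk_surjective (Ideal.Quotient.mk _ b - σ (residue B b) : R)
    have h0 : residue B c = 0 := by
      have h := congrArg r hc
      rw [map_sub, hσ] at h
      exact h.trans (sub_self _)
    rw [IsLocalRing.residue_eq_zero_iff, (IsDiscreteValuationRing.irreducible_iff_uniformizer π).1 hπ,
      Ideal.mem_span_singleton] at h0
    obtain ⟨d, rfl⟩ := h0
    exact ⟨C (residue B b), Ideal.Quotient.mk _ d, by
      show _ - eval₂ _ _ (C _) = _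
      rw [eval₂_C, ← map_mul]
      exact hc.symm⟩
  · exact hcase.imp_right fun h => .inl (by rw [← map_natCast (algebraMap κA κB), h, map_zero])

/-- The differentials of the residue fields are spanned by the image of a generator. -/
theorem map_D_mem_span [IsLocalRing A] [IsLocalHom (algebraMap A B)] (ω : Ω[B⁄A])
    (hω : Submodule.span B {ω} = ⊤) (b : B) :
    ∃ c : B, residue B c • KaehlerDifferential.map A (ResidueField A) B (ResidueField B) ω =
      KaehlerDifferential.D (ResidueField A) (ResidueField B) (residue B b) := by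
  obtain ⟨c, hc⟩ := Submodule.mem_span_singleton.1
    ((hω.symm ▸ Submodule.mem_top : KaehlerDifferential.D A B b ∈ Submodule.span B {ω}))
  refine ⟨c, ?_⟩
  have h := congrArg (KaehlerDifferential.map A (ResidueField A) B (ResidueField B)) hc
  rw [map_smul, KaehlerDifferential.map_D, ← IsScalarTower.algebraMap_smul (ResidueField B) c] at h
  exact h

/-- The case of an inseparable residue extension with cyclic differentials. -/
theorem exists_surjective_of_not_separable [IsLocalRing A] [IsLocalHom (algebraMap A B)]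
    [Module.Finite (ResidueField A) (ResidueField B)]
    (hsep : ¬ Algebra.IsSeparable (ResidueField A) (ResidueField B))
    (ω : Ω[B⁄A]) (hω : Submodule.span B {ω} = ⊤)
    (e : ℕ) (he : (maximalIdeal A).map (algebraMap A B) = maximalIdeal B ^ e) (he0 : e ≠ 0) :
    ∃ L : Ω[B⁄A] →ₗ[B] B ⧸ maximalIdeal B ^ e, Function.Surjective L := by
  obtain ⟨π, hπ⟩ := IsDiscreteValuationRing.exists_irreducible B
  let κA := ResidueField A
  let κB := ResidueField B
  let F := separableClosure κA κB
  have hD : ∃ b : B, KaehlerDifferential.D κA κB (residue B b) ≠ 0 := by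
    by_contra! h
    refine hsep ?_
    haveI : Subsingleton Ω[κB⁄κA] := by
      refine (Submodule.subsingleton_iff κB).1 (subsingleton_of_bot_eq_top ?_)
      rw [← KaehlerDifferential.span_range_derivation κA κB, eq_comm, Submodule.span_eq_bot]
      rintro _ ⟨y, rfl⟩
      obtain ⟨b, rfl⟩ := IsLocalRing.residue_surjective y
      exact h b
    haveI : Algebra.FormallyUnramified κA κB := ⟨inferInstance⟩
    exact Algebra.FormallyUnramified.isSeparable κA κB
  obtain ⟨x₀, hx₀⟩ := hD
  let x := residue B x₀
  -- the differentials of the residue extension are multiples of `dx`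
  have hdx : ∀ y : κB, ∃ c : κB, c • KaehlerDifferential.D κA κB x = KaehlerDifferential.D κA κB y := by
    intro y
    obtain ⟨b, rfl⟩ := IsLocalRing.residue_surjective y
    obtain ⟨c, hc⟩ := map_D_mem_span A ω hω b
    obtain ⟨c₀, hc₀⟩ := map_D_mem_span A ω hω x₀
    have hne : residue B c₀ ≠ 0 := fun h => hx₀ (hc₀.symm.trans (by rw [h]; exact zero_smul κB _))
    exact ⟨residue B c * (residue B c₀)⁻¹, by rw [← hc₀, smul_smul, inv_mul_cancel_right₀ hne, hc]⟩
  let L' := IntermediateField.adjoin F ({x} : Set κB)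
  haveI hpi : IsPurelyInseparable F κB := separableClosure.isPurelyInseparable κA κB
  have htop : ∀ y : κB, y ∈ L' := by
    intro y
    haveI : Subsingleton Ω[κB⁄L'] := by
      refine (Submodule.subsingleton_iff κB).1 (subsingleton_of_bot_eq_top ?_)
      rw [← KaehlerDifferential.span_range_derivation L' κB, eq_comm, Submodule.span_eq_bot]
      rintro _ ⟨y, rfl⟩
      haveI : IsScalarTower κA L' κB := IsScalarTower.of_algebraMap_eq fun _ => rfl
      obtain ⟨c, hc⟩ := hdx y
      have h := congrArg (KaehlerDifferential.map κA L' κB κB) hc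
      have h0 : KaehlerDifferential.D L' κB x = 0 :=
        (KaehlerDifferential.D L' κB).map_algebraMap
          (⟨x, IntermediateField.mem_adjoin_simple_self F x⟩ : L')
      rw [map_smul, KaehlerDifferential.map_D, KaehlerDifferential.map_D] at h
      simp only [Algebra.algebraMap_self, RingHom.id_apply, h0, smul_zero] at h
      exact h.symm
    haveI : Algebra.FormallyUnramified L' κB := ⟨inferInstance⟩
    haveI : Module.Finite F κB := Module.Finite.of_restrictScalars_finite κA F κB
    haveI : Algebra.IsSeparable L' κB := Algebra.FormallyUnramified.isSeparable L' κB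
    haveI : IsPurelyInseparable L' κB := IsPurelyInseparable.tower_top F L' κB
    obtain ⟨z, hz⟩ := IsPurelyInseparable.surjective_algebraMap_of_isSeparable L' κB y
    exact hz ▸ z.2
  have hxint : IsIntegral F x := by
    haveI : Module.Finite F κB := Module.Finite.of_restrictScalars_finite κA F κB
    exact IsIntegral.of_finite F x
  let g := minpoly F x
  have hg : Irreducible g := minpoly.irreducible hxint
  have hgder : derivative g = 0 := by
    by_contra h
    have hxs : IsSeparable F x := (Polynomial.separable_iff_derivative_ne_zero hg).2 h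
    obtain ⟨z, hz⟩ := IsPurelyInseparable.inseparable F x hxs
    refine hx₀ ?_
    show KaehlerDifferential.D κA κB x = 0
    haveI : Algebra.IsSeparable κA F := separableClosure.isSeparable κA κB
    haveI : Algebra.FormallyEtale κA F := Algebra.FormallyEtale.of_isSeparable κA F
    have : KaehlerDifferential.D κA F z = 0 := Subsingleton.elim _ _
    have h' := congrArg (KaehlerDifferential.map κA κA F κB) this
    rw [KaehlerDifferential.map_D, map_zero, hz] at h'
    exact h'
  -- lift the separable closure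
  let R := B ⧸ maximalIdeal B ^ e
  letI : Algebra κA R := (Ideal.quotientMap (maximalIdeal B ^ e) (algebraMap A B) (Ideal.map_le_iff_le_comap.1 he.le)).toAlgebra
  have hres : maximalIdeal B ^ e ≤ maximalIdeal B := Ideal.pow_le_self he0
  let r : R →ₐ[κA] κB :=
    { Ideal.Quotient.factor hres with
      commutes' := fun a => by
        obtain ⟨a, rfl⟩ := IsLocalRing.residue_surjective a
        rfl }
  haveI : Algebra.IsSeparable κA F := separableClosure.isSeparable κA κB
  haveI : Algebra.FormallyEtale κA F := Algebra.FormallyEtale.of_isSeparable κA F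
  have hr : Function.Surjective r := Ideal.Quotient.factor_surjective hres
  have hnil : IsNilpotent (RingHom.ker (r : R →+* κB)) := by
    refine ⟨e, ?_⟩
    have h : RingHom.ker (r : R →+* κB) = (maximalIdeal B).map (Ideal.Quotient.mk _) :=
      Ideal.Quotient.factor_ker hres
    rw [h, ← Ideal.map_pow]
    exact Ideal.map_quotient_self _
  let σ : F →ₐ[κA] R := Algebra.FormallySmooth.liftOfSurjective (IntermediateField.val F) r hr hnil
  have hσ : ∀ c : F, r (σ c) = (c : κB) := fun c => Algebra.FormallySmooth.liftOfSurjective_apply _ r hr hnil c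
  let χ : F[X] →+* R := eval₂RingHom (σ : F →+* R) (Ideal.Quotient.mk _ x₀)
  have hrχ : ∀ Q : F[X], r (χ Q) = aeval x Q := by
    intro Q
    show (r : R →+* κB) (eval₂ _ _ Q) = _
    rw [hom_eval₂, aeval_def]
    congr 1
    ext c
    exact hσ c
  have hA : ∀ a : A, χ (C (algebraMap κA F (residue A a))) = Ideal.Quotient.mk _ (algebraMap A B a) := fun a => by
    show eval₂ _ _ (C _) = _
    rw [eval₂_C]
    exact σ.commutes _
  have hdiv : ∀ q : R, r q = 0 → ∃ c, q = Ideal.Quotient.mk _ π * c := fun q hq => by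
    obtain ⟨b, rfl⟩ := Ideal.Quotient.mk_surjective q
    replace hq : residue B b = 0 := hq
    rw [IsLocalRing.residue_eq_zero_iff, (IsDiscreteValuationRing.irreducible_iff_uniformizer π).1 hπ,
      Ideal.mem_span_singleton] at hq
    obtain ⟨d, rfl⟩ := hq
    exact ⟨Ideal.Quotient.mk _ d, map_mul _ _ _⟩
  have hsurj : ∀ b : B, ∃ Q c, Ideal.Quotient.mk _ b - χ Q = Ideal.Quotient.mk _ π * c := by
    intro b
    obtain ⟨Q, hQ⟩ : ∃ Q : F[X], aeval x Q = residue B b := by
      have h := htop (residue B b)
      rw [← IntermediateField.mem_toSubalgebra, IntermediateField.adjoin_simple_toSubalgebra_of_isAlgebraic hxint.isAlgebraic,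
        Algebra.adjoin_singleton_eq_range_aeval] at h
      exact h
    obtain ⟨c, hc⟩ := hdiv (Ideal.Quotient.mk _ b - χ Q) (by
      rw [map_sub, hrχ, hQ]
      exact sub_self _)
    exact ⟨Q, c, hc⟩
  have hu : ∃ u, IsUnit u ∧ χ g = u * Ideal.Quotient.mk _ π := by
    obtain ⟨c, hc⟩ := hdiv (χ g) (by rw [hrχ]; exact minpoly.aeval F x)
    rcases Nat.lt_or_ge e 2 with h2 | h2
    · have h0 : Ideal.Quotient.mk (maximalIdeal B ^ e) π = 0 := by
        rw [← pow_one (Ideal.Quotient.mk (maximalIdeal B ^ e) π), mk_pow_eq_zero_iff hπ e 1]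
        omega
      exact ⟨1, isUnit_one, by rw [hc, h0, zero_mul, mul_zero]⟩
    obtain ⟨d, rfl⟩ := Ideal.Quotient.mk_surjective c
    by_cases hd : IsUnit d
    · exact ⟨_, hd.map _, by rw [hc, mul_comm]⟩
    exfalso
    have hle2 : maximalIdeal B ^ e ≤ maximalIdeal B ^ 2 := Ideal.pow_le_pow_right h2
    let φ := (Ideal.Quotient.factor hle2).comp χ
    set q := Ideal.Quotient.mk (maximalIdeal B ^ 2) π with hq
    have hqq : q * q = 0 := by rw [← pow_two, mk_pow_eq_zero_iff hπ 2 2]
    have hφg : φ g = 0 := by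
      obtain ⟨d', rfl⟩ : π ∣ d := Ideal.mem_span_singleton.1
        ((IsDiscreteValuationRing.irreducible_iff_uniformizer π).1 hπ ▸ (mem_maximalIdeal d).2 hd)
      show Ideal.Quotient.factor hle2 (χ g) = 0
      rw [hc, map_mul, Ideal.Quotient.factor_mk, Ideal.Quotient.factor_mk, map_mul, ← hq, ← mul_assoc, hqq, zero_mul]
    have hQex : ∀ b : B, ∃ Q : F[X], aeval x Q = residue B b := by
      intro b
      have h := htop (residue B b)
      rw [← IntermediateField.mem_toSubalgebra, IntermediateField.adjoin_simple_toSubalgebra_of_isAlgebraic hxint.isAlgebraic,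
        Algebra.adjoin_singleton_eq_range_aeval] at h
      exact h
    choose P hP using hQex
    let δ : B → B ⧸ maximalIdeal B ^ 2 := fun b => Ideal.Quotient.mk _ b - φ (P b)
    have wd : ∀ (b : B) (Q : F[X]), aeval x Q = residue B b → δ b = Ideal.Quotient.mk _ b - φ Q := fun b Q hQ => by
      obtain ⟨W, hW⟩ : g ∣ P b - Q := minpoly.dvd F x (by rw [map_sub, hP, hQ, sub_self])
      show _ - φ (P b) = _
      rw [show P b = Q + g * W by rw [← hW]; ring, map_add, map_mul, hφg, zero_mul, add_zero]
    have hmem : ∀ b, ∃ w, δ b = q * w := fun b => by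
      obtain ⟨w, hw⟩ := hdiv (Ideal.Quotient.mk _ b - χ (P b)) (by rw [map_sub, hrχ, hP]; exact sub_self _)
      refine ⟨Ideal.Quotient.factor hle2 w, ?_⟩
      have h := congrArg (Ideal.Quotient.factor hle2) hw
      rw [map_sub, map_mul, Ideal.Quotient.factor_mk, Ideal.Quotient.factor_mk] at h
      exact h
    have hadd : ∀ b b', δ (b + b') = δ b + δ b' := fun b b' => by
      rw [wd (b + b') (P b + P b') (by rw [map_add, hP, hP, map_add]), map_add, map_add]
      show _ = (_ - φ (P b)) + (_ - φ (P b'))
      ring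
    have hmul : ∀ b b', δ (b * b') = b • δ b' + b' • δ b := fun b b' => by
      obtain ⟨w, hw⟩ := hmem b
      obtain ⟨w', hw'⟩ := hmem b'
      have h1 : δ b * δ b' = 0 := by rw [hw, hw', mul_mul_mul_comm, hqq, zero_mul]
      rw [wd (b * b') (P b * P b') (by rw [map_mul, hP, hP, map_mul]), map_mul, map_mul,
        Algebra.smul_def, Algebra.smul_def, Ideal.Quotient.algebraMap_eq]
      have e1 : φ (P b) = Ideal.Quotient.mk _ b - δ b := (sub_sub_cancel _ _).symm
      have e2 : φ (P b') = Ideal.Quotient.mk _ b' - δ b' := (sub_sub_cancel _ _).symm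
      rw [e1, e2]
      linear_combination -h1
    have hsc : ∀ (a : A) (b : B), δ (a • b) = a • δ b := fun a b => by
      rw [wd (a • b) (C (algebraMap κA F (residue A a)) * P b) (by
          rw [map_mul, hP, aeval_C, ← IsScalarTower.algebraMap_apply, Algebra.smul_def, map_mul]
          rfl),
        map_mul, ← IsScalarTower.algebraMap_smul B a (δ b), Algebra.smul_def a b,
        Algebra.smul_def (algebraMap A B a) (δ b), Ideal.Quotient.algebraMap_eq, map_mul,
        show φ (C (algebraMap κA F (residue A a))) = Ideal.Quotient.mk _ (algebraMap A B a) from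
          (congrArg (Ideal.Quotient.factor hle2) (hA a)).trans (Ideal.Quotient.factor_mk _ _)]
      show _ = _ * (_ - φ (P b))
      ring
    let D : Derivation A B (B ⧸ maximalIdeal B ^ 2) := Derivation.mk'
      { toFun := δ, map_add' := hadd, map_smul' := hsc } hmul
    have hrange : ∀ z : Ω[B⁄A], ∃ w, D.liftKaehlerDifferential z = q * w := by
      intro z
      have hz : z ∈ Submodule.span B (Set.range (KaehlerDifferential.D A B)) :=
        (KaehlerDifferential.span_range_derivation A B).symm ▸ Submodule.mem_top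
      induction hz using Submodule.span_induction with
      | mem z hz =>
        obtain ⟨b, rfl⟩ := hz
        rw [Derivation.liftKaehlerDifferential_comp_D]
        exact hmem b
      | zero => exact ⟨0, by rw [map_zero, mul_zero]⟩
      | add z z' _ _ h h' =>
        obtain ⟨w, hw⟩ := h
        obtain ⟨w', hw'⟩ := h'
        exact ⟨w + w', by rw [map_add, hw, hw', mul_add]⟩
      | smul t z _ h =>
        obtain ⟨w, hw⟩ := h
        exact ⟨Ideal.Quotient.mk _ t * w, by rw [map_smul, hw, Algebra.smul_def, Ideal.Quotient.algebraMap_eq]; ring⟩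
    obtain ⟨t, ht⟩ := Submodule.mem_span_singleton.1
      ((hω.symm ▸ Submodule.mem_top : KaehlerDifferential.D A B π ∈ Submodule.span B {ω}))
    obtain ⟨w, hw⟩ := hrange ω
    have hπ0 : residue B π = 0 := (IsLocalRing.residue_eq_zero_iff π).2 ((mem_maximalIdeal π).2 hπ.not_isUnit)
    have hδπ : δ π = q := by
      rw [wd π 0 (by rw [map_zero, hπ0]), map_zero, sub_zero]
    have ht0 : residue B t = 0 := by
      have h := congrArg (KaehlerDifferential.map A κA B κB) ht
      rw [map_smul, KaehlerDifferential.map_D, ← IsScalarTower.algebraMap_smul κB t,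
        show algebraMap B κB π = residue B π from rfl, hπ0, map_zero] at h
      by_contra hne
      obtain ⟨c₀, hc₀⟩ := map_D_mem_span A ω hω x₀
      refine hx₀ (hc₀.symm.trans ?_)
      rw [(smul_eq_zero.1 h).resolve_left hne, smul_zero]
    rw [IsLocalRing.residue_eq_zero_iff, (IsDiscreteValuationRing.irreducible_iff_uniformizer π).1 hπ,
      Ideal.mem_span_singleton] at ht0
    obtain ⟨t', rfl⟩ := ht0
    have h := congrArg D.liftKaehlerDifferential ht
    rw [map_smul, Derivation.liftKaehlerDifferential_comp_D, hw, Algebra.smul_def, Ideal.Quotient.algebraMap_eq,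
      map_mul, ← hq] at h
    have h1 : q = 0 := by
      have h2 : δ π = q * Ideal.Quotient.mk _ t' * (q * w) := h.symm
      rw [← hδπ, h2, mul_mul_mul_comm, hqq, zero_mul]
    rw [hq, ← pow_one (Ideal.Quotient.mk (maximalIdeal B ^ 2) π), mk_pow_eq_zero_iff hπ 2 1] at h1
    omega
  exact exists_surjective_of_gen A hπ e e le_rfl χ (fun a => ⟨_, hA a⟩) g hg hu hsurj (Or.inr (Or.inr hgder))

/-- The tame case: the differentials are killed by the expected power of a uniformiser. -/
theorem exists_surjective_from_quotient [IsLocalRing A] [IsLocalHom (algebraMap A B)]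
    [Algebra.IsSeparable (ResidueField A) (ResidueField B)] [Module.Finite B Ω[B⁄A]]
    (e : ℕ) (he : (maximalIdeal A).map (algebraMap A B) = maximalIdeal B ^ e) (he0 : e ≠ 0)
    (hte : (e : ResidueField A) ≠ 0) :
    ∃ L : (B ⧸ maximalIdeal B ^ (e - 1)) →ₗ[B] Ω[B⁄A], Function.Surjective L := by
  obtain ⟨π, hπ⟩ := IsDiscreteValuationRing.exists_irreducible B
  have hm := (IsDiscreteValuationRing.irreducible_iff_uniformizer π).1 hπ
  let κA := ResidueField A
  let κB := ResidueField B
  let d := KaehlerDifferential.D A B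
  have htop : Submodule.span B {d π} = ⊤ := by
    refine eq_top_iff.2 (Submodule.le_of_le_smul_of_le_jacobson_bot (I := maximalIdeal B) (N' := (⊤ : Submodule B Ω[B⁄A]))
      Module.Finite.fg_top ((IsLocalRing.jacobson_eq_maximalIdeal _ bot_ne_top).ge) ?_)
    rw [← KaehlerDifferential.span_range_derivation A B, Submodule.span_le]
    rintro _ ⟨b, rfl⟩
    rw [KaehlerDifferential.span_range_derivation]
    have hb : IsSeparable κA (residue B b) := Algebra.IsSeparable.isSeparable κA _
    obtain ⟨H, hH⟩ := Polynomial.map_surjective _ IsLocalRing.residue_surjective (minpoly κA (residue B b))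
    have hres : ∀ P : A[X], residue B (aeval b P) = aeval (residue B b) (P.map (residue A)) := fun P => by
      rw [aeval_def, hom_eval₂, aeval_def, eval₂_map]
      congr 1
    have h0 : residue B (aeval b H) = 0 := by rw [hres, hH, minpoly.aeval]
    rw [IsLocalRing.residue_eq_zero_iff, hm, Ideal.mem_span_singleton] at h0
    obtain ⟨c, hc⟩ := h0
    have hu : IsUnit (aeval b (derivative H)) := by
      rw [← IsLocalRing.residue_ne_zero_iff_isUnit, hres, ← derivative_map, hH]
      exact hb.aeval_derivative_ne_zero (minpoly.aeval _ _)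
    have h := Derivation.map_aeval (KaehlerDifferential.D A B) H b
    rw [hc, Derivation.leibniz] at h
    have hdb : d b = ((↑hu.unit⁻¹ : B) * c) • d π + ((↑hu.unit⁻¹ : B) * π) • d c := by
      have h' := congrArg (fun z => (↑hu.unit⁻¹ : B) • z) h
      simp only [smul_add, smul_smul, IsUnit.val_inv_mul, one_smul] at h'
      rw [← h', add_comm]
    show d b ∈ _
    rw [hdb]
    refine Submodule.add_mem_sup (Submodule.smul_mem _ _ (Submodule.mem_span_singleton_self _)) ?_
    exact Submodule.smul_mem_smul (Ideal.mul_mem_left _ _ ((mem_maximalIdeal π).2 hπ.not_isUnit)) trivial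
  -- a relation from a generator of the maximal ideal of the base
  obtain ⟨a, u, hu, hau⟩ : ∃ (a : A) (u : B), IsUnit u ∧ algebraMap A B a = u * π ^ e := by
    by_contra! h
    have hle : maximalIdeal B ^ e ≤ maximalIdeal B ^ (e + 1) := by
      rw [← he, Ideal.map_le_iff_le_comap]
      intro a ha
      have h1 : algebraMap A B a ∈ maximalIdeal B ^ e := he ▸ Ideal.mem_map_of_mem _ ha
      rw [hm, Ideal.span_singleton_pow, Ideal.mem_span_singleton] at h1
      obtain ⟨v, hv⟩ := h1
      have hv' : ¬ IsUnit v := fun hu => h a v hu (by rw [hv, mul_comm])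
      rw [Ideal.mem_comap, hv, pow_succ]
      exact Ideal.mul_mem_mul (Ideal.pow_mem_pow ((mem_maximalIdeal π).2 hπ.not_isUnit) e) ((mem_maximalIdeal v).2 hv')
    have h2 : (π ^ e) ∈ maximalIdeal B ^ (e + 1) := hle (Ideal.pow_mem_pow ((mem_maximalIdeal π).2 hπ.not_isUnit) e)
    rw [hm, Ideal.span_singleton_pow, Ideal.mem_span_singleton, pow_dvd_pow_iff hπ.ne_zero hπ.not_isUnit] at h2
    omega
  have heu : IsUnit ((e : B)) := by
    rw [← IsLocalRing.residue_ne_zero_iff_isUnit, map_natCast, ← map_natCast (algebraMap κA κB)]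
    exact fun h => hte ((map_eq_zero _).1 h)
  have hkill : π ^ (e - 1) • d π = 0 := by
    obtain ⟨c, hc⟩ := Submodule.mem_span_singleton.1 ((htop.symm ▸ Submodule.mem_top : d u ∈ Submodule.span B {d π}))
    have h : d (u * π ^ e) = 0 := by rw [← hau]; exact Derivation.map_algebraMap _ _
    rw [Derivation.leibniz, Derivation.leibniz_pow, ← hc, smul_smul, ← Nat.cast_smul_eq_nsmul B, smul_smul, smul_smul,
      ← add_smul] at h
    have h' : (u * (e : B) + π * c) * π ^ (e - 1) = u * ↑e * π ^ (e - 1) + π ^ e * c := by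
      obtain ⟨m, rfl⟩ := Nat.exists_eq_succ_of_ne_zero he0
      simp only [Nat.succ_eq_add_one, Nat.add_sub_cancel, pow_succ]
      ring
    rw [← h', mul_smul] at h
    refine ((IsLocalRing.notMem_maximalIdeal.1 fun hmem => ?_).smul_eq_zero).1 h
    have : u * (e : B) ∈ maximalIdeal B := by
      simpa using Ideal.sub_mem _ hmem ((maximalIdeal B).mul_mem_right c ((mem_maximalIdeal π).2 hπ.not_isUnit))
    exact (mem_maximalIdeal _).1 this (hu.mul heu)
  refine ⟨Submodule.liftQ _ (LinearMap.toSpanSingleton B _ (d π)) ?_, ?_⟩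
  · intro z hz
    rw [hm, Ideal.span_singleton_pow, Ideal.mem_span_singleton] at hz
    obtain ⟨w, rfl⟩ := hz
    rw [LinearMap.mem_ker, LinearMap.toSpanSingleton_apply, mul_comm, mul_smul, hkill, smul_zero]
  · intro z
    obtain ⟨c, hc⟩ := Submodule.mem_span_singleton.1 ((htop.symm ▸ Submodule.mem_top : z ∈ Submodule.span B {d π}))
    exact ⟨Submodule.Quotient.mk c, hc⟩

/-- **The differentials of an extension of discrete valuation rings.** -/
theorem length_bound [IsLocalRing A] [IsLocalHom (algebraMap A B)] [Module.Finite (ResidueField A) (ResidueField B)]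
    (ω : Ω[B⁄A]) (hω : Submodule.span B {ω} = ⊤)
    (e : ℕ) (he : (maximalIdeal A).map (algebraMap A B) = maximalIdeal B ^ e) (he0 : e ≠ 0) :
    ((e - 1 : ℕ) : ℕ∞) ≤ Module.length B Ω[B⁄A] ∧
      (Module.length B Ω[B⁄A] = ((e - 1 : ℕ) : ℕ∞) ↔
        Algebra.IsSeparable (ResidueField A) (ResidueField B) ∧ (e : ResidueField A) ≠ 0) := by
  have hlen : ∀ n : ℕ, Module.length B (B ⧸ maximalIdeal B ^ n) = n := fun n =>
    IsDiscreteValuationRing.length_quotient_pow_maximalIdeal B n
  have hlow : ∀ n : ℕ, (∃ L : Ω[B⁄A] →ₗ[B] B ⧸ maximalIdeal B ^ n, Function.Surjective L) →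
      (n : ℕ∞) ≤ Module.length B Ω[B⁄A] := fun n ⟨L, hL⟩ => hlen n ▸ Module.length_le_of_surjective L hL
  have hbig : ¬ (Algebra.IsSeparable (ResidueField A) (ResidueField B) ∧ (e : ResidueField A) ≠ 0) →
      (e : ℕ∞) ≤ Module.length B Ω[B⁄A] := fun hn => by
    by_cases hs : Algebra.IsSeparable (ResidueField A) (ResidueField B)
    · exact hlow e (exists_surjective_of_separable A e e he he0 le_rfl (Or.inr (not_not.1 fun h => hn ⟨hs, h⟩)))
    · exact hlow e (exists_surjective_of_not_separable A hs ω hω e he he0)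
  have hsmall : ((e - 1 : ℕ) : ℕ∞) ≤ Module.length B Ω[B⁄A] := by
    by_cases hs : Algebra.IsSeparable (ResidueField A) (ResidueField B)
    · exact hlow _ (exists_surjective_of_separable A e (e - 1) he he0 (by omega) (Or.inl (by omega)))
    · exact le_trans (Nat.cast_le.2 (by omega)) (hbig fun h => hs h.1)
  refine ⟨hsmall, ⟨fun h => by_contra fun hn => ?_, fun ⟨hs, hte⟩ => le_antisymm ?_ hsmall⟩⟩
  · have := hbig hn
    rw [h, Nat.cast_le] at this
    omega
  · haveI : Module.Finite B Ω[B⁄A] := ⟨⟨{ω}, by simp [hω]⟩⟩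
    obtain ⟨L, hL⟩ := exists_surjective_from_quotient A e he he0 hte
    exact (Module.length_le_of_surjective L hL).trans (hlen (e - 1)).le

end GrothLib.RamDiff9
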