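import Groth.Agent.Lib.RamDiff9.Alg
import Groth.Agent.Lib.RamInsep9.Basic
import Groth.Agent.Lib.OmegaFree.Basic
import Groth.Agent.Lib.CurveMult.OmegaField
import Groth.Agent.Lib.Seesaw26.Scheme
import Groth.Agent.Lib.CurvePoints.Basic
import Groth.Agent.Lib.CurveRR.Places

/-!
# Ramification of a morphism of smooth curves at a closed point
-/

set_option autoImplicit false
set_option linter.all false
set_option backward.isDefEq.respectTransparency false
set_option maxHeartbeats 800000

universe u

open CategoryTheory CategoryTheory.Limits AlgebraicGeometry IsLocalRing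

noncomputable section

namespace GrothLib.RamDiff9

variable {X Y : Scheme.{u}} (f : X ⟶ Y) (x : X)

/-- The differentials of a local ring over the one of its image are cyclic when those over the base are. -/
theorem exists_generator {S : Scheme.{u}} (q : Y ⟶ S) [QuasiSeparated (f ≫ q)]
    (hL : PicF.IsInvertible (Omega.sheaf (f ≫ q))) :
    letI := (f.stalkMap x).hom.toAlgebra
    ∃ ω : Ω[X.presheaf.stalk x⁄Y.presheaf.stalk (f x)], Submodule.span (X.presheaf.stalk x) {ω} = ⊤ := by
  letI := (f.stalkMap x).hom.toAlgebra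
  letI : Algebra (S.presheaf.stalk ((f ≫ q) x)) (X.presheaf.stalk x) := ((f ≫ q).stalkMap x).hom.toAlgebra
  letI : Algebra (S.presheaf.stalk ((f ≫ q) x)) (Y.presheaf.stalk (f x)) := (q.stalkMap (f x)).hom.toAlgebra
  haveI : IsScalarTower (S.presheaf.stalk ((f ≫ q) x)) (Y.presheaf.stalk (f x)) (X.presheaf.stalk x) :=
    IsScalarTower.of_algebraMap_eq fun a =>
      ConcreteCategory.congr_hom (Scheme.Hom.stalkMap_comp f q x) a
  obtain ⟨E⟩ := GrothLib.OmegaFree.nonempty_stalk_equiv (f ≫ q) x
  obtain ⟨b⟩ := GrothLib.OmegaFree.exists_basis_stalk ((GrothLib.Seesaw26.isInvertible_iff_rank_one _).2 hL) x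
  let b' := b.map E
  let ψ := KaehlerDifferential.map (S.presheaf.stalk ((f ≫ q) x)) (Y.presheaf.stalk (f x))
    (X.presheaf.stalk x) (X.presheaf.stalk x)
  refine ⟨ψ (b' 0), eq_top_iff.2 fun z _ => ?_⟩
  obtain ⟨w, rfl⟩ := KaehlerDifferential.map_surjective_of_surjective (S.presheaf.stalk ((f ≫ q) x))
    (Y.presheaf.stalk (f x)) (X.presheaf.stalk x) (X.presheaf.stalk x) Function.surjective_id z
  refine Submodule.mem_span_singleton.2 ⟨b'.repr w 0, ?_⟩
  have h : b'.repr w 0 • b' 0 = w := by
    rw [← Fin.sum_univ_one (fun i => b'.repr w i • b' i)]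
    exact b'.sum_repr w
  show b'.repr w 0 • ψ (b' 0) = ψ w
  rw [← map_smul, h]

/-- The residue extension at a closed point is finite. -/
theorem finite_residueExt [LocallyOfFiniteType f] (hx : IsClosed ({x} : Set X)) :
    (f.residueFieldMap x).hom.Finite := by
  haveI : IsClosedImmersion (X.fromSpecResidueField x) := IsClosedImmersion.of_isPreimmersion _ (by
    rw [Scheme.range_fromSpecResidueField]
    exact hx)
  haveI : LocallyOfFiniteType (Spec.map (f.residueFieldMap x) ≫ Y.fromSpecResidueField (f x)) := by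
    rw [Scheme.Hom.SpecMap_residueFieldMap_fromSpecResidueField]
    infer_instance
  haveI : LocallyOfFiniteType (Spec.map (f.residueFieldMap x)) :=
    locallyOfFiniteType_of_comp _ (Y.fromSpecResidueField (f x))
  have h1 : (f.residueFieldMap x).hom.FiniteType := (HasRingHomProperty.Spec_iff (P := @LocallyOfFiniteType)).1 inferInstance
  letI := (f.residueFieldMap x).hom.toAlgebra
  haveI : Algebra.FiniteType (Y.residueField (f x)) (X.residueField x) := h1
  exact (finite_of_finite_type_of_isJacobsonRing (Y.residueField (f x)) (X.residueField x) : Module.Finite _ _)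

variable (k : Type u) [Field k] [X.Over (Spec (CommRingCat.of k))] [Y.Over (Spec (CommRingCat.of k))]
  [IsIntegral X] [IsProper (X ↘ (Spec (CommRingCat.of k)))] [Smooth (X ↘ (Spec (CommRingCat.of k)))]
  [IsIntegral Y] [IsProper (Y ↘ (Spec (CommRingCat.of k)))] [Smooth (Y ↘ (Spec (CommRingCat.of k)))]

/-- The ramification bound. -/
theorem ramification_bound (hdX : topologicalKrullDim X = 1) (hdY : topologicalKrullDim Y = 1)
    (hf : f ≫ (Y ↘ (Spec (CommRingCat.of k))) = X ↘ (Spec (CommRingCat.of k)))
    (e : f (genericPoint X) = genericPoint Y) (hx : IsClosed ({x} : Set X)) :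
    letI := (f.stalkMap x).hom.toAlgebra
    letI := (f.residueFieldMap x).hom.toAlgebra
    ((((Ideal.ramificationIdx (IsLocalRing.maximalIdeal (X.presheaf.stalk x)) (Y.presheaf.stalk (f x)) - 1 : ℕ) : ℕ∞) ≤ Module.length (X.presheaf.stalk x) (KaehlerDifferential (Y.presheaf.stalk (f x)) (X.presheaf.stalk x))) ∧
      ((Module.length (X.presheaf.stalk x) (KaehlerDifferential (Y.presheaf.stalk (f x)) (X.presheaf.stalk x)) = ((Ideal.ramificationIdx (IsLocalRing.maximalIdeal (X.presheaf.stalk x)) (Y.presheaf.stalk (f x)) - 1 : ℕ) : ℕ∞)) ↔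
        (Algebra.IsSeparable (Y.residueField (f x)) (X.residueField x) ∧ ((Ideal.ramificationIdx (IsLocalRing.maximalIdeal (X.presheaf.stalk x)) (Y.presheaf.stalk (f x)) : ℕ) : Y.residueField (f x)) ≠ 0))) := by
  letI := (f.stalkMap x).hom.toAlgebra
  letI := (f.residueFieldMap x).hom.toAlgebra
  let pY := Y ↘ (Spec (CommRingCat.of k))
  haveI : IsProper (f ≫ pY) := by rw [hf]; infer_instance
  haveI : IsProper f := IsProper.of_comp f pY
  haveI : GrothLib.CurveRR.RegCurve X := GrothLib.CurveRR.regCurve_of_smooth (X ↘ (Spec (CommRingCat.of k))) hdX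
  haveI : GrothLib.CurveRR.RegCurve Y := GrothLib.CurveRR.regCurve_of_smooth pY hdY
  have hy : IsClosed ({f x} : Set Y) := by
    simpa using f.isClosedMap _ hx
  haveI : IsDiscreteValuationRing (X.presheaf.stalk x) :=
    GrothLib.CurveRR.RegCurve.dvr x ((GrothLib.CurvePoints.isClosed_singleton_iff hdX).1 hx)
  haveI : IsDiscreteValuationRing (Y.presheaf.stalk (f x)) :=
    GrothLib.CurveRR.RegCurve.dvr (f x) ((GrothLib.CurvePoints.isClosed_singleton_iff hdY).1 hy)
  haveI : IsLocalHom (algebraMap (Y.presheaf.stalk (f x)) (X.presheaf.stalk x)) :=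
    inferInstanceAs (IsLocalHom (f.stalkMap x).hom)
  have hne : (maximalIdeal (Y.presheaf.stalk (f x))).map (algebraMap (Y.presheaf.stalk (f x)) (X.presheaf.stalk x)) ≠ ⊥ :=
    fun h => IsDiscreteValuationRing.not_a_field (Y.presheaf.stalk (f x))
      ((Ideal.map_eq_bot_iff_of_injective (GrothLib.CurvePoints.stalkMap_injective f e x)).1 h)
  obtain ⟨π, hπ⟩ := IsDiscreteValuationRing.exists_irreducible (X.presheaf.stalk x)
  obtain ⟨n, hn⟩ := IsDiscreteValuationRing.ideal_eq_span_pow_irreducible hne hπ
  rw [← Ideal.span_singleton_pow, ← (IsDiscreteValuationRing.irreducible_iff_uniformizer π).1 hπ] at hn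
  have hn0 : n ≠ 0 := by
    rintro rfl
    rw [pow_zero, Ideal.one_eq_top] at hn
    have h2 : (maximalIdeal (Y.presheaf.stalk (f x))).map (algebraMap (Y.presheaf.stalk (f x)) (X.presheaf.stalk x)) ≤
        maximalIdeal (X.presheaf.stalk x) :=
      ((IsLocalRing.local_hom_TFAE (algebraMap (Y.presheaf.stalk (f x)) (X.presheaf.stalk x))).out 0 2).mp ‹_›
    rw [hn] at h2
    exact (IsLocalRing.maximalIdeal.isMaximal _).ne_top (top_le_iff.1 h2)
  have he : Ideal.ramificationIdx (IsLocalRing.maximalIdeal (X.presheaf.stalk x)) (Y.presheaf.stalk (f x)) = n := by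
    rw [GrothLib.RamInsep9.ramificationIdx_local, GrothLib.Weight.fibreLength, hn,
      IsDiscreteValuationRing.length_quotient_pow_maximalIdeal, ENat.toNat_coe]
  obtain ⟨ω, hω⟩ := exists_generator f x pY (by
    rw [hf]
    exact GrothLib.CurveMult.OmegaField.isInvertible k)
  have halg : (f.residueFieldMap x).hom.toAlgebra =
      (inferInstance : Algebra (IsLocalRing.ResidueField (Y.presheaf.stalk (f x))) (IsLocalRing.ResidueField (X.presheaf.stalk x))) := by
    refine Algebra.algebra_ext _ _ fun r => ?_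
    obtain ⟨a, rfl⟩ := IsLocalRing.residue_surjective r
    exact ConcreteCategory.congr_hom (Scheme.residue_residueFieldMap f x) a
  haveI : Module.Finite (IsLocalRing.ResidueField (Y.presheaf.stalk (f x))) (IsLocalRing.ResidueField (X.presheaf.stalk x)) := by
    have h := finite_residueExt f x hx
    rw [RingHom.Finite, halg] at h
    exact h
  have key := length_bound (Y.presheaf.stalk (f x)) ω hω n hn hn0
  rw [he]
  refine ⟨key.1, key.2.trans (and_congr ?_ Iff.rfl)⟩
  rw [halg]
  exact Iff.rfl

end GrothLib.RamDiff9
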